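import Groth.Agent.Lib.GeomFact.Lift
import Groth.Agent.S12237
import Groth.Prelude.Def_Hens2
import Mathlib.AlgebraicGeometry.Stalk

/-!
# Morphisms between strict localisations
-/

set_option autoImplicit false

universe u

open CategoryTheory AlgebraicGeometry IsLocalRing

namespace GrothLib.StrictLocSpec

/-- Algebra maps out of an ind-étale algebra into a henselian local ring are determined residually. -/
theorem algHom_ext_residue {A B : Type u} [CommRing A] [CommRing B] [Algebra A B] (h : EtPBC.IsIndEtale A B)
    {T : Type u} [CommRing T] [HenselianLocalRing T] [Algebra A T] (f g : B →ₐ[A] T)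
    (e : ∀ b, residue T (f b) = residue T (g b)) : f = g := by
  refine AlgHom.ext fun b => ?_
  obtain ⟨V, _, _, _, v, x, hx⟩ := IndEt.exists_etale_lift h (fun _ : Unit => b)
  have hu := GrothLib.Hensel.existsUnique_lift_residue (R := A) (S := T) (A := V)
    (((residue T).comp f.toRingHom).comp v.toRingHom) (RingHom.ext fun a => by
      show residue T (f (v (algebraMap A V a))) = residue T (algebraMap A T a)
      rw [v.commutes, f.commutes])
  have := hu.unique (y₁ := f.comp v) (y₂ := g.comp v) (fun _ => rfl) (fun y => (e (v y)).symm)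
  rw [← hx ()]
  exact AlgHom.congr_fun this (x ())

variable (X : Scheme.{u}) (x : X) (R : Type u) [CommRing R] [IsLocalRing R] [Algebra (X.presheaf.stalk x) R]
  [IsLocalHom (algebraMap (X.presheaf.stalk x) R)]

theorem specOf_apply_specializes (p : Spec (CommRingCat.of R)) : Hens2.specOf X x R p ⤳ x := by
  have : Hens2.specOf X x R p ∈ Set.range (X.fromSpecStalk x) :=
    ⟨_, (Scheme.Hom.comp_apply _ _ p).symm⟩
  rwa [Scheme.range_fromSpecStalk] at this

theorem specOf_closedPoint : Hens2.specOf X x R (closedPoint R) = x := by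
  have e : Spec.map (CommRingCat.ofHom (algebraMap (X.presheaf.stalk x) R)) (closedPoint R) =
      closedPoint (X.presheaf.stalk x) := IsLocalRing.comap_closedPoint (algebraMap (X.presheaf.stalk x) R)
  rw [Scheme.Hom.comp_apply, e]
  exact Scheme.fromSpecStalk_closedPoint

theorem geomPt_apply (p : Spec (CommRingCat.of (ResidueField R))) : Hens2.geomPt X x R p = x := by
  have e : Spec.map (CommRingCat.ofHom (residue R)) p = closedPoint R := by
    rw [Subsingleton.elim (α := PrimeSpectrum (ResidueField R)) p (closedPoint (ResidueField R))]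
    exact IsLocalRing.comap_closedPoint (residue R)
  rw [Scheme.Hom.comp_apply, e]
  exact specOf_closedPoint X x R

variable [Hensel.IsStrictHenselization (X.presheaf.stalk x) R] {x' : X} (R' : Type u) [CommRing R'] [IsLocalRing R']
  [Algebra (X.presheaf.stalk x') R'] [IsLocalHom (algebraMap (X.presheaf.stalk x') R')]

theorem specializes_of_hom {g : Spec (CommRingCat.of R') ⟶ Spec (CommRingCat.of R)}
    (hg : g ≫ Hens2.specOf X x R = Hens2.specOf X x' R') : x' ⤳ x := by
  rw [← specOf_closedPoint X x' R', ← hg, Scheme.Hom.comp_apply]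
  exact specOf_apply_specializes X x R _

theorem specializes_of_geomPt {h : Spec (CommRingCat.of (ResidueField R')) ⟶ Spec (CommRingCat.of R)}
    (hh : h ≫ Hens2.specOf X x R = Hens2.geomPt X x' R') : x' ⤳ x := by
  rw [← geomPt_apply X x' R' (closedPoint (ResidueField R')), ← hh, Scheme.Hom.comp_apply]
  exact specOf_apply_specializes X x R _

/-- A map of spectra is over the scheme iff the ring map is over the local ring. -/
theorem comp_specOf_eq_iff (hs : x' ⤳ x) {T : Type u} [CommRing T] (γ : R →+* T) (α : X.presheaf.stalk x' →+* T) :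
    Spec.map (CommRingCat.ofHom γ) ≫ Hens2.specOf X x R = Spec.map (CommRingCat.ofHom α) ≫ X.fromSpecStalk x' ↔
      γ.comp (algebraMap (X.presheaf.stalk x) R) = α.comp (X.presheaf.stalkSpecializes hs).hom := by
  rw [← Scheme.SpecMap_stalkSpecializes_fromSpecStalk hs, ← Category.assoc, ← Category.assoc, cancel_mono,
    ← Spec.map_comp, ← Spec.map_comp, Spec.map_inj, CommRingCat.hom_ext_iff]
  rfl

variable [HenselianLocalRing R'] (hs : x' ⤳ x)

theorem hom_ext [Hensel.IsStrictHenselization (X.presheaf.stalk x) R] {γ₁ γ₂ : R →+* R'}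
    (h₁ : γ₁.comp (algebraMap (X.presheaf.stalk x) R) = γ₂.comp (algebraMap (X.presheaf.stalk x) R))
    (he : (residue R').comp γ₁ = (residue R').comp γ₂) : γ₁ = γ₂ := by
  letI : Algebra (X.presheaf.stalk x) R' := (γ₁.comp (algebraMap (X.presheaf.stalk x) R)).toAlgebra
  let f : R →ₐ[X.presheaf.stalk x] R' := { γ₁ with commutes' := fun _ => rfl }
  let g : R →ₐ[X.presheaf.stalk x] R' := { γ₂ with commutes' := fun a => (RingHom.congr_fun h₁ a).symm }
  have := algHom_ext_residue (Groth.Agent.S12237.result (X.presheaf.stalk x) R) f g (RingHom.congr_fun he)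
  exact congrArg AlgHom.toRingHom this

end GrothLib.StrictLocSpec
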